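import Groth.Agent.Lib.DefGlue19.Scheme
import Groth.Agent.Lib.ArtFun.Criteria
import Groth.Prelude.Def_ArtFun2

/-!
# The deformation functor of a scheme: `H₀`, `S1`, `H_ε`, and bijectivity versus lifting of automorphisms
-/

universe u

open CategoryTheory CategoryTheory.Limits AlgebraicGeometry ArtFun ArtFun.Art

namespace GrothLib.DefGlue19

set_option backward.isDefEq.respectTransparency false in
theorem flat_specPt {k : Type u} [Field k] {X : Scheme.{u}} (x : X ⟶ specPt k) : Flat x := by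
  refine IsZariskiLocalAtSource.of_openCover (P := @AlgebraicGeometry.Flat.{u}) X.affineCover fun i => ?_
  obtain ⟨φ, hφ⟩ := Spec.map_surjective (X.affineCover.f i ≫ x)
  rw [← hφ]
  refine (HasRingHomProperty.Spec_iff (P := @Flat)).2 ?_
  letI := φ.hom.toAlgebra
  exact RingHom.flat_algebraMap_iff.2 inferInstance

variable {Λ k : Type u} [CommRing Λ] [Field k] [Algebra Λ k] {X : Scheme.{u}} {x : X ⟶ specPt k}
variable {B A A' A'' : Art Λ k} {p' : B ⟶ A'} {p'' : B ⟶ A''} {f' : A' ⟶ A} {f'' : A'' ⟶ A}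

theorem arr_of_eq {g : A' ⟶ A} {ξ : DefSch X x A'} {η : DefSch X x A}
    (h : (defFunctor X x).map g ξ.cl = η.cl) : Nonempty (Arr g ξ η) := by
  obtain ⟨e⟩ : Nonempty ((ξ.baseChange g).Iso η) := Quotient.exact h
  exact ⟨(Arr.baseChange ξ g).trans e.symm⟩

theorem eq_of_arr {g : A' ⟶ A} {ξ : DefSch X x A'} {η : DefSch X x A} (a : Arr g ξ η) :
    (defFunctor X x).map g ξ.cl = η.cl :=
  Quotient.sound a.nonempty_iso

/-- Two maps from one deformation along the same ring map differ by an automorphism. -/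
theorem exists_iso_of_arr {g : A' ⟶ A} {ξ : DefSch X x A'} {η η' : DefSch X x A} (a : Arr g ξ η) (b : Arr g ξ η') :
    ∃ θ : η.Iso η', θ.iso.hom ≫ b.hom = a.hom := by
  refine ⟨⟨IsPullback.isoIsPullback _ _ a.isPullback b.isPullback,
    IsPullback.isoIsPullback_hom_snd _ _ a.isPullback b.isPullback, ?_⟩,
    IsPullback.isoIsPullback_hom_fst _ _ a.isPullback b.isPullback⟩
  apply b.isPullback.hom_ext
  · rw [Category.assoc, IsPullback.isoIsPullback_hom_fst, a.i_hom, b.i_hom]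
  · rw [Category.assoc, IsPullback.isoIsPullback_hom_snd, η.i_f, η'.i_f]

/-- A deformation over the fibre product is determined by a square of maps. -/
theorem nonempty_iso_of_square (h : IsFibreProd p' p'' f' f'') (hf : Function.Surjective f'')
    {ζ₁ ζ₂ : DefSch X x B} {ξ' : DefSch X x A'} {ξ'' : DefSch X x A''} {η : DefSch X x A}
    (a' : Arr f' ξ' η) (a'' : Arr f'' ξ'' η)
    (b₁' : Arr p' ζ₁ ξ') (b₁'' : Arr p'' ζ₁ ξ'') (w₁ : a''.hom ≫ b₁''.hom = a'.hom ≫ b₁'.hom)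
    (b₂' : Arr p' ζ₂ ξ') (b₂'' : Arr p'' ζ₂ ξ'') (w₂ : a''.hom ≫ b₂''.hom = a'.hom ≫ b₂'.hom) :
    Nonempty (ζ₁.Iso ζ₂) := by
  have hP₁ := isPushout_arr h hf b₁' b₁'' a' a'' w₁
  have hP₂ := isPushout_arr h hf b₂' b₂'' a' a'' w₂
  refine ⟨⟨hP₁.isoIsPushout _ _ hP₂, ?_, ?_⟩⟩
  · apply hP₁.hom_ext
    · rw [← Category.assoc, IsPushout.inl_isoIsPushout_hom, b₁''.isPullback.w, b₂''.isPullback.w]
    · rw [← Category.assoc, IsPushout.inr_isoIsPushout_hom, b₁'.isPullback.w, b₂'.isPullback.w]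
  · rw [← b₁'.i_hom, Category.assoc, IsPushout.inr_isoIsPushout_hom, b₂'.i_hom]

variable (X x) in
theorem cmp_surjective (h : IsFibreProd p' p'' f' f'') (hf : Function.Surjective f'') :
    Function.Surjective (cmp (defFunctor X x) h) := by
  rw [GrothLib.ArtFun.cmp_surjective_iff]
  intro u v huv
  induction u using Quotient.inductionOn with | h ξ' =>
  induction v using Quotient.inductionOn with | h ξ'' =>
  obtain ⟨a'⟩ := arr_of_eq (η := ξ''.baseChange f'') huv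
  obtain ⟨ζ, b', b'', -⟩ := exists_glue h hf a' (Arr.baseChange ξ'' f'')
  exact ⟨ζ.cl, eq_of_arr b', eq_of_arr b''⟩

/-- Every automorphism of the base change of `ξ` along `g` lifts. -/
def AutLift (X : Scheme.{u}) (x : X ⟶ specPt k) {A' A : Art Λ k} (g : A' ⟶ A) : Prop :=
  ∀ (ξ : DefSch (Λ := Λ) X x A') (θ : (ξ.baseChange g).Iso (ξ.baseChange g)),
    ∃ ψ : ξ.Iso ξ, θ.iso.hom ≫ pullback.fst ξ.f (specMap g) = pullback.fst ξ.f (specMap g) ≫ ψ.iso.hom

theorem autLift_iff (g : A' ⟶ A) :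
    AutLift X x g ↔ ∀ ξ : DefSch X x A', Function.Surjective (fun e : ξ.Iso ξ => e.baseChange g) := by
  constructor
  · intro h ξ θ
    obtain ⟨ψ, hψ⟩ := h ξ θ
    refine ⟨ψ, ?_⟩
    have : (ψ.baseChange g).iso = θ.iso := by
      refine CategoryTheory.Iso.ext (pullback.hom_ext ?_ ?_)
      · rw [hψ]; exact DefSch.pullMap_fst ψ.iso.hom ψ.hom_f g
      · exact (DefSch.pullMap_snd ψ.iso.hom ψ.hom_f g).trans θ.hom_f.symm
    show ψ.baseChange g = θ
    revert this
    generalize ψ.baseChange g = φ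
    intro this
    cases φ; cases θ; cases this; rfl
  · intro h ξ θ
    obtain ⟨ψ, rfl⟩ := h ξ θ
    exact ⟨ψ, DefSch.pullMap_fst ψ.iso.hom ψ.hom_f g⟩

variable (X x) in
theorem cmp_injective (h : IsFibreProd p' p'' f' f'') (hf : Function.Surjective f'') (hl : AutLift X x f'') :
    Function.Injective (cmp (defFunctor X x) h) := by
  intro u v e
  obtain ⟨e', e''⟩ := (GrothLib.ArtFun.cmp_eq_iff h u _).1 e
  induction u using Quotient.inductionOn with | h ζ₁ =>
  induction v using Quotient.inductionOn with | h ζ₂ =>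
  let ξ' := ζ₁.baseChange p'
  let ξ'' := ζ₁.baseChange p''
  let b₁' : Arr p' ζ₁ ξ' := Arr.baseChange ζ₁ p'
  let b₁'' : Arr p'' ζ₁ ξ'' := Arr.baseChange ζ₁ p''
  obtain ⟨b₂'⟩ : Nonempty (Arr p' ζ₂ ξ') := arr_of_eq e'.symm
  obtain ⟨b₂''⟩ : Nonempty (Arr p'' ζ₂ ξ'') := arr_of_eq e''.symm
  let a'' : Arr f'' ξ'' (ξ''.baseChange f'') := Arr.baseChange ξ'' f''
  have key : ∀ (ζ : DefSch X x B) (b' : Arr p' ζ ξ') (b'' : Arr p'' ζ ξ''),
      ∃ a' : Arr f' ξ' (ξ''.baseChange f''), a''.hom ≫ b''.hom = a'.hom ≫ b'.hom := by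
    intro ζ b' b''
    have hw : (a''.hom ≫ b''.hom) ≫ ζ.f = ((ξ''.baseChange f'').f ≫ specMap f') ≫ specMap p' := by
      rw [Category.assoc, b''.isPullback.w, reassoc_of% a''.isPullback.w, Category.assoc,
        ← specMap_comp, ← specMap_comp, h.w]
    have hpb : IsPullback (a''.hom ≫ b''.hom) (ξ''.baseChange f'').f ζ.f (specMap f' ≫ specMap p') := by
      rw [← specMap_comp, h.w, specMap_comp]
      exact a''.isPullback.paste_horiz b''.isPullback
    refine ⟨⟨b'.isPullback.lift (a''.hom ≫ b''.hom) ((ξ''.baseChange f'').f ≫ specMap f') hw, ?_, ?_⟩,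
      (b'.isPullback.lift_fst _ _ hw).symm⟩
    · refine IsPullback.of_right ?_ (b'.isPullback.lift_snd _ _ hw) b'.isPullback
      rw [b'.isPullback.lift_fst]
      exact hpb
    · apply b'.isPullback.hom_ext
      · rw [Category.assoc, b'.isPullback.lift_fst, ← Category.assoc, a''.i_hom, b''.i_hom, b'.i_hom]
      · rw [Category.assoc, b'.isPullback.lift_snd, ← Category.assoc, DefSch.i_f, Category.assoc, specRes_comp,
          DefSch.i_f]
  obtain ⟨a₁, h₁⟩ := key ζ₁ b₁' b₁''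
  obtain ⟨a₂, h₂⟩ := key ζ₂ b₂' b₂''
  obtain ⟨θ, hθ⟩ := exists_iso_of_arr a₂ a₁
  obtain ⟨ψ, hψ⟩ := hl ξ'' θ
  refine Quotient.sound (nonempty_iso_of_square h hf a₂ a'' b₁' (b₁''.trans ψ) ?_ b₂' b₂'' h₂)
  show a''.hom ≫ ψ.iso.hom ≫ b₁''.hom = a₂.hom ≫ b₁'.hom
  rw [← Category.assoc, show a''.hom ≫ ψ.iso.hom = θ.iso.hom ≫ a''.hom from hψ.symm, Category.assoc, h₁,
    ← Category.assoc, hθ]

theorem autLift_of_injective (g : A' ⟶ A) (hg : Function.Surjective g)
    (hinj : ∀ ⦃B : Art Λ k⦄ (p₁ p₂ : B ⟶ A') (h : IsFibreProd p₁ p₂ g g),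
      Function.Injective (cmp (defFunctor X x) h)) : AutLift X x g := by
  intro ξ θ
  obtain ⟨B, p₁, p₂, h⟩ := GrothLib.ArtFun.exists_isFibreProd_of_surjective g g hg
  haveI : IsClosedImmersion (specMap p₁) :=
    IsClosedImmersion.spec_of_surjective _ (GrothLib.ArtFun.fp_fst_surjective h hg)
  let a : Arr g ξ (ξ.baseChange g) := Arr.baseChange ξ g
  obtain ⟨ζ₁, b₁', b₁'', h₁⟩ := exists_glue h hg (a.trans θ) a
  obtain ⟨ζ₂, b₂', b₂'', h₂⟩ := exists_glue h hg a a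
  have hcl : ζ₁.cl = ζ₂.cl := GrothLib.ArtFun.eq_of_cmp_injective (hinj p₁ p₂ h)
    ((eq_of_arr b₁').trans (eq_of_arr b₂').symm) ((eq_of_arr b₁'').trans (eq_of_arr b₂'').symm)
  obtain ⟨φ⟩ : Nonempty (ζ₁.Iso ζ₂) := Quotient.exact hcl
  obtain ⟨u, hu⟩ := exists_iso_of_arr (b₁'.map φ) b₂'
  obtain ⟨v, hv⟩ := exists_iso_of_arr (b₁''.map φ) b₂''
  haveI : IsClosedImmersion b₂'.hom :=
    MorphismProperty.of_isPullback (P := @IsClosedImmersion) b₂'.isPullback.flip inferInstance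
  refine ⟨v.trans u.symm, ?_⟩
  have h₁' : a.hom ≫ b₁''.hom = (θ.iso.hom ≫ a.hom) ≫ b₁'.hom := h₁
  have hv' : a.hom ≫ v.iso.hom = DefSch.pullMap v.iso.hom v.hom_f g ≫ a.hom :=
    (DefSch.pullMap_fst v.iso.hom v.hom_f g).symm
  have key : a.hom ≫ v.iso.hom = θ.iso.hom ≫ a.hom ≫ u.iso.hom := by
    rw [← cancel_mono b₂'.hom]
    calc (a.hom ≫ v.iso.hom) ≫ b₂'.hom
        = DefSch.pullMap v.iso.hom v.hom_f g ≫ a.hom ≫ b₂'.hom := by rw [hv', Category.assoc]
      _ = (a.hom ≫ v.iso.hom) ≫ b₂''.hom := by rw [← h₂, hv', Category.assoc]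
      _ = a.hom ≫ b₁''.hom ≫ φ.iso.hom := by rw [Category.assoc, hv]; rfl
      _ = (θ.iso.hom ≫ a.hom ≫ u.iso.hom) ≫ b₂'.hom := by
        rw [← Category.assoc, h₁', Category.assoc, Category.assoc, Category.assoc, Category.assoc, hu]
        rfl
  show θ.iso.hom ≫ a.hom = a.hom ≫ v.iso.hom ≫ u.iso.inv
  rw [← Category.assoc a.hom, key, Category.assoc, Category.assoc, u.iso.hom_inv_id, Category.comp_id]

variable (X x) in
theorem h0_defFunctor : H0 (defFunctor (Λ := Λ) X x) := by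
  have hx : Flat x := GrothLib.DefGlue19.flat_specPt x
  let ξ₀ : DefSch (Λ := Λ) X x (Art.base Λ k) := DefSch.self X x hx
  refine ⟨⟨ξ₀.cl⟩, ⟨fun u v => ?_⟩⟩
  have key : ∀ w : (defFunctor (Λ := Λ) X x).obj (Art.base Λ k), w = ξ₀.cl := fun w => by
    induction w using Quotient.inductionOn with | h ζ =>
    haveI : IsIso ζ.i := ζ.isPullback.isIso_fst_of_isIso
    refine Quotient.sound ⟨⟨(asIso ζ.i).symm, ?_, IsIso.hom_inv_id ζ.i⟩⟩
    show inv ζ.i ≫ x = ζ.f
    refine (IsIso.inv_comp_eq ζ.i).2 ?_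
    exact (Art.comp_specRes_base x).symm.trans ζ.i_f.symm
  exact (key u).trans (key v).symm

theorem autLift_toBase (A' : Art Λ k) : AutLift X x (toBase A') := by
  intro ξ θ
  refine ⟨DefSch.Iso.refl ξ, ?_⟩
  haveI : IsIso (ξ.baseChange (toBase A')).i := (ξ.baseChange (toBase A')).isPullback.isIso_fst_of_isIso
  have : θ.iso.hom = 𝟙 _ := by
    rw [← cancel_epi (ξ.baseChange (toBase A')).i, θ.i_hom, Category.comp_id]
  rw [this, Category.id_comp]
  exact (Category.comp_id _).symm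

variable (X x) in
theorem heps_defFunctor : Heps (defFunctor (Λ := Λ) X x) := fun _ A' p' p'' h =>
  ⟨cmp_injective X x h (Art.dual Λ k).res_surjective (autLift_toBase _),
    cmp_surjective X x h (Art.dual Λ k).res_surjective⟩

end GrothLib.DefGlue19
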