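import Groth.Agent.Lib.DefGlue19.Functor
import Groth.Agent.Lib.T2Obs26.Hull
import Groth.Agent.Lib.CotT.Annihilate
import Groth.Agent.Lib.ArtFun.Tangent
import Mathlib.RingTheory.Jacobson.Artinian
import Mathlib.AlgebraicGeometry.Morphisms.Smooth

/-!
# Finiteness of the tangent space of an affine scheme smooth outside finitely many points
-/

universe u

open CategoryTheory CategoryTheory.Limits AlgebraicGeometry ArtFun ArtFun.Art

namespace GrothLib.DefGlue19

/-- A presentation of a finite type algebra over a field with index types in the universe of the field. -/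
theorem exists_presentation (k B : Type u) [Field k] [CommRing B] [Algebra k B] [Algebra.FiniteType k B] :
    ∃ (ι σ : Type u) (_ : Finite ι) (_ : Finite σ), Nonempty (Algebra.Presentation k B ι σ) := by
  haveI : Algebra.FinitePresentation k B := Algebra.FinitePresentation.of_finiteType.1 inferInstance
  let P := Algebra.Presentation.ofFinitePresentation k B
  exact ⟨_, _, inferInstance, inferInstance, ⟨P.reindex Equiv.ulift.{u} Equiv.ulift.{u}⟩⟩

/-- `T¹` is finite-dimensional when the algebra is smooth outside finitely many points. -/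
theorem finite_T1 {k B : Type u} [Field k] [CommRing B] [Algebra k B] [Algebra.FiniteType k B]
    {ι σ : Type u} [Finite ι] [Finite σ] (P : Algebra.Presentation k B ι σ) (Z : Set (PrimeSpectrum B))
    (hZ : IsClosed Z) (hfin : Z.Finite)
    (hsm : ∀ g : B, (PrimeSpectrum.basicOpen g : Set (PrimeSpectrum B)) ⊆ Zᶜ →
      Algebra.FormallySmooth k (Localization.Away g)) : Module.Finite k (CotT.T1 P B) := by
  classical
  haveI : IsNoetherianRing B := Algebra.FiniteType.isNoetherianRing k B
  haveI : IsNoetherianRing P.toExtension.Ring := (inferInstance : IsNoetherianRing (MvPolynomial ι k))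
  haveI : Module.Finite P.toExtension.Ring P.toExtension.ker := Module.Finite.of_fg (IsNoetherian.noetherian _)
  haveI : Module.Finite P.toExtension.Ring P.toExtension.Cotangent :=
    Module.Finite.of_surjective _ Algebra.Extension.Cotangent.mk_surjective
  haveI : Module.Finite B P.toExtension.Cotangent := Module.Finite.of_restrictScalars_finite P.toExtension.Ring _ _
  haveI : Module.Free B P.toExtension.CotangentSpace := Module.Free.of_basis P.cotangentSpaceBasis
  haveI : Module.Finite B P.toExtension.CotangentSpace := Module.Finite.of_basis P.cotangentSpaceBasis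
  haveI : Module.FinitePresentation B P.toExtension.Cotangent := Module.finitePresentation_of_finite B _
  haveI : Module.Finite B (CotT.T1 P B) := Module.Finite.of_surjective _ (GrothLib.CotT.homToT1_surjective P B)
  obtain ⟨G, hG⟩ := IsNoetherian.noetherian (PrimeSpectrum.vanishingIdeal Z)
  have hg : ∀ g ∈ G, ∃ n : ℕ, ∀ z : CotT.T1 P B, g ^ n • z = 0 := fun g hg => by
    haveI := hsm g fun q hq hqZ => hq ((PrimeSpectrum.mem_vanishingIdeal _ _).1 (hG ▸ Ideal.subset_span hg) q hqZ)
    obtain ⟨n, w, hw⟩ := GrothLib.CotT.exists_pow_kills P.toExtension g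
    exact ⟨n, fun z => GrothLib.CotT.smul_T1_eq_zero P B _ w hw z⟩
  choose n hn using hg
  let J : Ideal B := Ideal.span (Set.range fun g : G => (g : B) ^ n g g.2)
  have hJle : J ≤ Module.annihilator B (CotT.T1 P B) := Ideal.span_le.2 fun a ⟨g, hga⟩ =>
    Module.mem_annihilator.2 fun z => hga ▸ hn _ g.2 z
  have hJ : Module.IsTorsionBySet B (CotT.T1 P B) J := fun z a => Module.mem_annihilator.1 (hJle a.2) z
  letI := hJ.module
  haveI : IsScalarTower B (B ⧸ J) (CotT.T1 P B) := hJ.isScalarTower
  haveI : Module.Finite (B ⧸ J) (CotT.T1 P B) := Module.Finite.of_restrictScalars_finite B _ _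
  have hsub : ∀ q : PrimeSpectrum (B ⧸ J), PrimeSpectrum.comap (Ideal.Quotient.mk J) q ∈ Z := fun q => by
    have hle : (G : Set B) ⊆ (PrimeSpectrum.comap (Ideal.Quotient.mk J) q).asIdeal := fun g hg => by
      refine (PrimeSpectrum.comap (Ideal.Quotient.mk J) q).isPrime.mem_of_pow_mem (n g hg) ?_
      show Ideal.Quotient.mk J (g ^ n g hg) ∈ q.asIdeal
      rw [Ideal.Quotient.eq_zero_iff_mem.2 (show g ^ n g hg ∈ J from Ideal.subset_span ⟨⟨g, hg⟩, rfl⟩)]
      exact zero_mem _
    rw [← hZ.closure_eq, ← PrimeSpectrum.zeroLocus_vanishingIdeal_eq_closure, PrimeSpectrum.mem_zeroLocus,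
      ← hG, SetLike.coe_subset_coe, Ideal.span_le]
    exact hle
  haveI : Finite (PrimeSpectrum (B ⧸ J)) := by
    haveI := hfin.to_subtype
    refine Finite.of_injective (fun q => (⟨_, hsub q⟩ : Z)) fun a b e => ?_
    exact PrimeSpectrum.comap_injective_of_surjective _ Ideal.Quotient.mk_surjective (congrArg Subtype.val e)
  haveI : IsJacobsonRing (B ⧸ J) := isJacobsonRing_of_finiteType (A := k)
  haveI : JacobsonSpace (PrimeSpectrum (B ⧸ J)) := PrimeSpectrum.isJacobsonRing_iff_jacobsonSpace.1 inferInstance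
  haveI : Ring.KrullDimLE 0 (B ⧸ J) := PrimeSpectrum.discreteTopology_iff_finite_and_krullDimLE_zero.1 inferInstance |>.2
  haveI : Module.Finite k (B ⧸ J) := (Module.finite_iff_krullDimLE_zero k (B ⧸ J)).2 inferInstance
  haveI : IsScalarTower k (B ⧸ J) (CotT.T1 P B) := ⟨fun c x z => by
    obtain ⟨b, rfl⟩ := Ideal.Quotient.mk_surjective x
    show (Ideal.Quotient.mk J (c • b)) • z = c • ((Ideal.Quotient.mk J b) • z)
    rw [hJ.mk_smul, hJ.mk_smul, smul_assoc]⟩
  exact Module.Finite.trans (B ⧸ J) _

section Transfer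

variable {Λ k : Type u} [CommRing Λ] [Field k] [Algebra Λ k] {X X' : Scheme.{u}}
  {x : X ⟶ specPt k} {x' : X' ⟶ specPt k} (e : X' ≅ X) (he : e.hom ≫ x = x')

/-- Restricting the base of the dual numbers from `Λ` to `k`, along an isomorphism of the closed fibre. -/
@[reducible] noncomputable def trDual (ξ : DefSch X x (Art.dual Λ k)) : DefSch X' x' (Art.dual k k) where
  total := ξ.total
  f := ξ.f
  flat := ξ.flat
  i := e.hom ≫ ξ.i
  isPullback := ξ.isPullback.of_iso e.symm (Iso.refl _) (Iso.refl _) (Iso.refl _) (by simp)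
    (by simp [← he]) ((Category.comp_id _).trans (Category.id_comp _).symm) ((Category.comp_id _).trans (Category.id_comp _).symm)

@[reducible] noncomputable def trDual2 (ξ : DefSch X x (Art.dual2 Λ k)) : DefSch X' x' (Art.dual2 k k) where
  total := ξ.total
  f := ξ.f
  flat := ξ.flat
  i := e.hom ≫ ξ.i
  isPullback := ξ.isPullback.of_iso e.symm (Iso.refl _) (Iso.refl _) (Iso.refl _) (by simp)
    (by simp [← he]) ((Category.comp_id _).trans (Category.id_comp _).symm) ((Category.comp_id _).trans (Category.id_comp _).symm)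

noncomputable def trCl (u : (defFunctor (Λ := Λ) X x).obj (Art.dual Λ k)) :
    (defFunctor (Λ := k) X' x').obj (Art.dual k k) :=
  Quotient.liftOn u (fun ξ => (trDual e he ξ).cl) fun a b h => Quotient.sound <| h.elim fun ψ =>
    ⟨⟨ψ.iso, ψ.hom_f, by rw [Category.assoc, ψ.i_hom]⟩⟩

theorem trCl_injective : Function.Injective (trCl (Λ := Λ) (k := k) e he) := fun u v h => by
  induction u using Quotient.inductionOn with | h ξ =>
  induction v using Quotient.inductionOn with | h ζ =>
  obtain ⟨ψ⟩ := Quotient.exact h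
  refine Quotient.sound ⟨⟨ψ.iso, ψ.hom_f, ?_⟩⟩
  rw [← cancel_epi e.hom, ← Category.assoc]
  exact ψ.i_hom

theorem trCl_map (g : Art.dual2 Λ k ⟶ Art.dual Λ k) (g' : Art.dual2 k k ⟶ Art.dual k k)
    (hg : specMap g' = specMap g) (ξ : DefSch X x (Art.dual2 Λ k)) :
    trCl e he ((defFunctor X x).map g ξ.cl) = (defFunctor X' x').map g' (trDual2 e he ξ).cl := by
  refine (eq_of_arr (X := X') (x := x') (g := g') (η := trDual e he (ξ.baseChange g))
    ⟨pullback.fst ξ.f (specMap g), ?_, ?_⟩).symm
  · rw [hg]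
    exact IsPullback.of_hasPullback ξ.f (specMap g)
  · rw [Category.assoc, DefSch.baseChange_i_fst]

theorem trCl_scale (c : k) (ξ : DefSch X x (Art.dual Λ k)) :
    trCl e he ((defFunctor X x).map (Art.scale c) ξ.cl) = (defFunctor X' x').map (Art.scale c) (trDual e he ξ).cl := by
  refine (eq_of_arr (X := X') (x := x') (g := Art.scale c) (η := trDual e he (ξ.baseChange (Art.scale c)))
    ⟨pullback.fst ξ.f (specMap (Art.scale c)), IsPullback.of_hasPullback ξ.f (specMap (Art.scale c)), ?_⟩).symm
  rw [Category.assoc, DefSch.baseChange_i_fst]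

include e he in
/-- The tangent space of a scheme isomorphic to an affine one with finite-dimensional `T¹` is finite-dimensional. -/
theorem hfin_of_finite_T1 {B₀ : Type u} [CommRing B₀] [Algebra k B₀] {ι σ : Type u}
    (P : Algebra.Presentation k B₀ ι σ) [Module.Finite k (CotT.T1 P B₀)]
    (E : Spec (CommRingCat.of B₀) ≅ X') (hE : E.hom ≫ x' = Spec.map (CommRingCat.ofHom (algebraMap k B₀)))
    [TangentStr (defFunctor (Λ := Λ) X x)] : Hfin (defFunctor (Λ := Λ) X x) := by
  have hEe : (E ≪≫ e).hom ≫ x = Spec.map (CommRingCat.ofHom (algebraMap k B₀)) := by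
    rw [Iso.trans_hom, Category.assoc, he, hE]
  let T : TangentSpace (defFunctor (Λ := Λ) X x) → CotT.T1 P B₀ := fun u =>
    GrothLib.T2Obs26.Td P (trCl (E ≪≫ e) hEe u)
  have hinj : Function.Injective T := fun u v h =>
    trCl_injective (E ≪≫ e) hEe ((GrothLib.T2Obs26.Td_bijective P).1 h)
  have hsmul : ∀ (c : k) (u : TangentSpace (defFunctor (Λ := Λ) X x)), T (c • u) = c • T u := fun c u => by
    induction u using Quotient.inductionOn with | h ξ =>
    refine (congrArg T (TangentStr.smul_eq c _)).trans ?_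
    exact (congrArg (GrothLib.T2Obs26.Td P) (trCl_scale (E ≪≫ e) hEe c ξ)).trans (GrothLib.T2Obs26.Td_scale P c _)
  have hadd : ∀ u v : TangentSpace (defFunctor (Λ := Λ) X x), T (u + v) = T u + T v := fun u v => by
    obtain ⟨z, hz₁, hz₂⟩ := GrothLib.ArtFun.exists_of_cmp_surjective
      (cmp_surjective X x (Art.isFibreProd_dual2 (Λ := Λ) (k := k)) (Art.dual Λ k).res_surjective) u v
      (GrothLib.ArtFun.h0_eq (h0_defFunctor X x) _ _)
    induction z using Quotient.inductionOn with | h ξ =>
    have h : u + v = (defFunctor X x).map Art.plus ξ.cl := by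
      rw [← TangentStr.add_eq (F := defFunctor (Λ := Λ) X x) ξ.cl]
      exact congrArg₂ (· + ·) hz₁.symm hz₂.symm
    subst hz₁ hz₂
    refine (congrArg T h).trans ?_
    show GrothLib.T2Obs26.Td P _ = GrothLib.T2Obs26.Td P _ + GrothLib.T2Obs26.Td P _
    exact (congrArg (GrothLib.T2Obs26.Td P) (trCl_map (E ≪≫ e) hEe (Art.plus (Λ := Λ) (k := k)) (Art.plus (Λ := k) (k := k)) rfl ξ)).trans
      ((GrothLib.T2Obs26.Td_add P _).symm.trans (congrArg₂ (· + ·)
        (congrArg (GrothLib.T2Obs26.Td P) (trCl_map (E ≪≫ e) hEe (Art.pr₁ (Λ := Λ) (k := k)) (Art.pr₁ (Λ := k) (k := k)) rfl ξ)).symm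
        (congrArg (GrothLib.T2Obs26.Td P) (trCl_map (E ≪≫ e) hEe (Art.pr₂ (Λ := Λ) (k := k)) (Art.pr₂ (Λ := k) (k := k)) rfl ξ)).symm))
  exact Module.Finite.of_injective
    ({ toFun := T, map_add' := hadd, map_smul' := hsmul } :
      TangentSpace (defFunctor (Λ := Λ) X x) →ₗ[k] CotT.T1 P B₀) hinj

end Transfer

end GrothLib.DefGlue19
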