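import Groth.Agent.Lib.Milnor.Flat
import Groth.Agent.Lib.Milnor.Glue
import Groth.Agent.Lib.Misc6.AffinePushout
import Mathlib.Algebra.Category.Ring.Constructions
import Mathlib.RingTheory.RingHom.Flat

/-!
# Flat algebras over a fibre product of rings, glued from a pair
-/

universe u

open TensorProduct CategoryTheory

namespace GrothLib.DefGlue19

open Groth.Agent

set_option backward.isDefEq.respectTransparency false in
theorem glue_algebra {B A₁ A₂ A R M₁ M₂ M : Type u} [CommRing B] [CommRing A₁] [CommRing A₂] [CommRing A]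
    [CommRing R] [CommRing M₁] [CommRing M₂] [CommRing M]
    [Algebra B A₁] [Algebra B A₂] [Algebra A₁ A] [Algebra A₂ A] [Algebra B A]
    [IsScalarTower B A₁ A] [IsScalarTower B A₂ A]
    [Algebra A₁ M₁] [Algebra B M₁] [IsScalarTower B A₁ M₁] [Algebra B R] [Algebra R M₁] [IsScalarTower B R M₁]
    [Algebra A₂ M₂] [Algebra B M₂] [IsScalarTower B A₂ M₂] [Algebra R M₂] [IsScalarTower B R M₂]
    [Algebra A M] [Algebra A₁ M] [Algebra M₁ M] [IsScalarTower A₁ A M] [IsScalarTower A₁ M₁ M]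
    [Algebra A₂ M] [Algebra M₂ M] [IsScalarTower A₂ A M] [IsScalarTower A₂ M₂ M]
    [Algebra.IsPushout A₁ A M₁ M] [Algebra.IsPushout A₂ A M₂ M]
    (hsq : EtMil.IsFibreSquare B A₁ A₂ A)
    (hR : Misc6.FibreSquare (algebraMap R M₁) (algebraMap R M₂) (algebraMap M₁ M) (algebraMap M₂ M))
    [Module.Flat A₁ M₁] [Module.Flat A₂ M₂] :
    Module.Flat B R ∧ Algebra.IsPushout B A₁ R M₁ ∧ Algebra.IsPushout B A₂ R M₂ := by
  have hS := Milnor.sq_of_isFibreSquare hsq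
  let e₁ := Algebra.IsPushout.equiv A₁ A M₁ M
  let e₂ := Algebra.IsPushout.equiv A₂ A M₂ M
  let φ : A ⊗[A₁] M₁ ≃ₗ[A] A ⊗[A₂] M₂ := e₁.toLinearEquiv.trans e₂.symm.toLinearEquiv
  have hmem : ∀ x : M₁ × M₂, x ∈ EtMil.glue B φ ↔ algebraMap M₁ M x.1 = algebraMap M₂ M x.2 := fun x => by
    show φ ((1 : A) ⊗ₜ[A₁] x.1) = (1 : A) ⊗ₜ[A₂] x.2 ↔ _
    rw [← Algebra.IsPushout.equiv_symm_algebraMap_right (R := A₂) (S := A) (R' := M₂) (S' := M) x.2]
    show e₂.symm (e₁ ((1 : A) ⊗ₜ[A₁] x.1)) = e₂.symm (algebraMap M₂ M x.2) ↔ _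
    rw [EquivLike.apply_eq_iff_eq, Algebra.IsPushout.equiv_tmul, map_one, one_mul]
  let ψ : R →ₗ[B] EtMil.glue B φ :=
    ((IsScalarTower.toAlgHom B R M₁).toLinearMap.prod (IsScalarTower.toAlgHom B R M₂).toLinearMap).codRestrict _
      fun r => (hmem _).2 congr($(hR.w) r)
  have hψ : Function.Bijective ψ := by
    refine ⟨(injective_iff_map_eq_zero _).2 fun r hr => ?_, fun x => ?_⟩
    · have h := congrArg Subtype.val hr
      exact hR.inj r (congrArg Prod.fst h) (congrArg Prod.snd h)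
    · obtain ⟨r, h₁, h₂⟩ := hR.ex _ _ ((hmem _).1 x.2)
      exact ⟨r, Subtype.ext (Prod.ext h₁ h₂)⟩
  let e : R ≃ₗ[B] EtMil.glue B φ := LinearEquiv.ofBijective ψ hψ
  have b₁ : Function.Bijective ((IsScalarTower.toAlgHom B R M₁).toLinearMap.liftBaseChange A₁) := by
    have h : (IsScalarTower.toAlgHom B R M₁).toLinearMap.liftBaseChange A₁ =
        (EtMil.glueFst B φ).liftBaseChange A₁ ∘ₗ e.toLinearMap.baseChange A₁ :=
      TensorProduct.AlgebraTensorModule.ext fun a r => by simp [e, ψ, EtMil.glueFst]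
    rw [h, LinearMap.coe_comp]
    exact (Milnor.bijective_liftBaseChange_fst (φ := φ) hS).comp (e.baseChange B A₁ R _).bijective
  have b₂ : Function.Bijective ((IsScalarTower.toAlgHom B R M₂).toLinearMap.liftBaseChange A₂) := by
    have h : (IsScalarTower.toAlgHom B R M₂).toLinearMap.liftBaseChange A₂ =
        (EtMil.glueSnd B φ).liftBaseChange A₂ ∘ₗ e.toLinearMap.baseChange A₂ :=
      TensorProduct.AlgebraTensorModule.ext fun a r => by simp [e, ψ, EtMil.glueSnd]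
    rw [h, LinearMap.coe_comp]
    exact (Milnor.bijective_liftBaseChange_snd (φ := φ) hS).comp (e.baseChange B A₂ R _).bijective
  haveI : Module.Flat A₁ (A₁ ⊗[B] R) := .of_linearEquiv (LinearEquiv.ofBijective _ b₁)
  haveI : Module.Flat A₂ (A₂ ⊗[B] R) := .of_linearEquiv (LinearEquiv.ofBijective _ b₂)
  exact ⟨Milnor.flat_of_pair hsq,
    ⟨IsBaseChange.of_equiv (LinearEquiv.ofBijective _ b₁) fun r => by simp⟩,
    ⟨IsBaseChange.of_equiv (LinearEquiv.ofBijective _ b₂) fun r => by simp⟩⟩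

open CommRingCat in
theorem isPushout_of_glue {B A₁ A₂ A R M₁ M₂ M : CommRingCat.{u}}
    {π₁ : B ⟶ A₁} {π₂ : B ⟶ A₂} {s₁ : A₁ ⟶ A} {s₂ : A₂ ⟶ A}
    {f : R ⟶ M₁} {g : R ⟶ M₂} {q : M₁ ⟶ M} {p : M₂ ⟶ M}
    {ρ : B ⟶ R} {σ₁ : A₁ ⟶ M₁} {σ₂ : A₂ ⟶ M₂} {σ : A ⟶ M}
    (hπ : Misc6.FibreSquare π₁.hom π₂.hom s₁.hom s₂.hom)
    (hR : Misc6.FibreSquare f.hom g.hom q.hom p.hom)
    (w₁ : ρ ≫ f = π₁ ≫ σ₁) (w₂ : ρ ≫ g = π₂ ≫ σ₂)
    (hq : IsPushout s₁ σ₁ σ q) (hp : IsPushout s₂ σ₂ σ p) (hf₁ : σ₁.hom.Flat) (hf₂ : σ₂.hom.Flat) :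
    ρ.hom.Flat ∧ IsPushout π₁ ρ σ₁ f ∧ IsPushout π₂ ρ σ₂ g := by
  letI := π₁.hom.toAlgebra
  letI := π₂.hom.toAlgebra
  letI := s₁.hom.toAlgebra
  letI := s₂.hom.toAlgebra
  letI := (π₁ ≫ s₁).hom.toAlgebra
  letI := σ₁.hom.toAlgebra
  letI := σ₂.hom.toAlgebra
  letI := σ.hom.toAlgebra
  letI := f.hom.toAlgebra
  letI := g.hom.toAlgebra
  letI := q.hom.toAlgebra
  letI := p.hom.toAlgebra
  letI := ρ.hom.toAlgebra
  letI := (π₁ ≫ σ₁).hom.toAlgebra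
  letI := (π₂ ≫ σ₂).hom.toAlgebra
  letI := (s₁ ≫ σ).hom.toAlgebra
  letI := (s₂ ≫ σ).hom.toAlgebra
  haveI : IsScalarTower B A₁ A := .of_algebraMap_eq fun _ => rfl
  haveI : IsScalarTower B A₂ A := .of_algebraMap_eq fun x => congr($(hπ.w) x)
  haveI : IsScalarTower B A₁ M₁ := .of_algebraMap_eq fun _ => rfl
  haveI : IsScalarTower B R M₁ := .of_algebraMap_eq fun x => congr($(w₁.symm) x)
  haveI : IsScalarTower B A₂ M₂ := .of_algebraMap_eq fun _ => rfl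
  haveI : IsScalarTower B R M₂ := .of_algebraMap_eq fun x => congr($(w₂.symm) x)
  haveI : IsScalarTower A₁ A M := .of_algebraMap_eq fun _ => rfl
  haveI : IsScalarTower A₁ M₁ M := .of_algebraMap_eq fun x => congr($(hq.w) x)
  haveI : IsScalarTower A₂ A M := .of_algebraMap_eq fun _ => rfl
  haveI : IsScalarTower A₂ M₂ M := .of_algebraMap_eq fun x => congr($(hp.w) x)
  haveI : Algebra.IsPushout A₁ A M₁ M := isPushout_iff_isPushout.1 hq
  haveI : Algebra.IsPushout A₂ A M₂ M := isPushout_iff_isPushout.1 hp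
  haveI : Module.Flat A₁ M₁ := hf₁
  haveI : Module.Flat A₂ M₂ := hf₂
  have hsq : EtMil.IsFibreSquare B A₁ A₂ A := by
    refine ⟨hπ.surj, fun b a h => ?_⟩
    obtain ⟨x, h₁, h₂⟩ := hπ.ex b a h
    refine ⟨x, ⟨h₁, h₂⟩, fun y ⟨g₁, g₂⟩ => sub_eq_zero.1 (hπ.inj _ ?_ ?_)⟩
    · rw [map_sub, sub_eq_zero]; exact g₁.trans h₁.symm
    · rw [map_sub, sub_eq_zero]; exact g₂.trans h₂.symm
  obtain ⟨hfl, hP₁, hP₂⟩ := glue_algebra (R := R) (M₁ := M₁) (M₂ := M₂) (M := M) hsq hR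
  exact ⟨hfl, isPushout_iff_isPushout.2 hP₁, isPushout_iff_isPushout.2 hP₂⟩

end GrothLib.DefGlue19
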