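import Groth.Agent.Lib.DefGlue19.Ring
import Groth.Agent.Lib.Pushout6.BaseChange
import Groth.Agent.Lib.Pushout6.Exists
import Groth.Agent.Lib.ArtFun.SmallExt
import Groth.Prelude.Def_ArtFun4

/-!
# Gluing deformations of schemes along a fibre product of Artin rings
-/

universe u

open CategoryTheory CategoryTheory.Limits AlgebraicGeometry ArtFun ArtFun.Art

namespace GrothLib.DefGlue19

variable {Λ k : Type u} [CommRing Λ] [Field k] [Algebra Λ k] {X : Scheme.{u}} {x : X ⟶ specPt k}

/-- A cartesian map of deformations over a map of Artin rings. -/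
structure Arr {A B : Art Λ k} (g : A ⟶ B) (ξ : DefSch X x A) (η : DefSch X x B) : Type u where
  hom : η.total ⟶ ξ.total
  isPullback : IsPullback hom η.f ξ.f (specMap g)
  i_hom : η.i ≫ hom = ξ.i

namespace Arr

variable {A B C : Art Λ k} {g : A ⟶ B} {ξ : DefSch X x A} {η η' : DefSch X x B}

noncomputable def baseChange (ξ : DefSch X x A) (g : A ⟶ B) : Arr g ξ (ξ.baseChange g) :=
  ⟨pullback.fst ξ.f (specMap g), IsPullback.of_hasPullback ξ.f (specMap g), DefSch.baseChange_i_fst ξ g⟩

theorem nonempty_iso (a : Arr g ξ η) : Nonempty ((ξ.baseChange g).Iso η) :=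
  ⟨{ iso := a.isPullback.isoPullback.symm
     hom_f := a.isPullback.isoPullback_inv_snd
     i_hom := by
      show (ξ.baseChange g).i ≫ a.isPullback.isoPullback.inv = η.i
      apply a.isPullback.hom_ext
      · rw [Category.assoc, a.isPullback.isoPullback_inv_fst, DefSch.baseChange_i_fst, a.i_hom]
      · rw [Category.assoc, a.isPullback.isoPullback_inv_snd, DefSch.baseChange_i_f, η.i_f] }⟩

noncomputable def trans (a : Arr g ξ η) (e : η'.Iso η) : Arr g ξ η' where
  hom := e.iso.hom ≫ a.hom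
  isPullback := a.isPullback.of_iso e.iso.symm (Iso.refl _) (Iso.refl _) (Iso.refl _) (by simp)
    (by simp only [Iso.symm_hom, Iso.refl_hom, Category.comp_id]; rw [← e.hom_f, Iso.inv_hom_id_assoc])
    (by simp) (by simp)
  i_hom := by rw [← Category.assoc, e.i_hom, a.i_hom]

noncomputable def map {ξ' : DefSch X x A} (a : Arr g ξ η) (e : ξ.Iso ξ') : Arr g ξ' η where
  hom := a.hom ≫ e.iso.hom
  isPullback := a.isPullback.of_iso (Iso.refl _) e.iso (Iso.refl _) (Iso.refl _) (by simp) (by simp)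
    (by simp [e.hom_f]) (by simp)
  i_hom := by rw [← Category.assoc, a.i_hom, e.i_hom]

end Arr

variable {B A A' A'' : Art Λ k} {p' : B ⟶ A'} {p'' : B ⟶ A''} {f' : A' ⟶ A} {f'' : A'' ⟶ A}

theorem fibreSquare (h : IsFibreProd p' p'' f' f'') (hf : Function.Surjective f'') :
    Misc6.FibreSquare (CommRingCat.ofHom p'.toAlgHom.toRingHom).hom (CommRingCat.ofHom p''.toAlgHom.toRingHom).hom
      (CommRingCat.ofHom f'.toAlgHom.toRingHom).hom (CommRingCat.ofHom f''.toAlgHom.toRingHom).hom where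
  w := RingHom.ext h.w_apply
  inj b h₁ h₂ := h.inj b 0 (h₁.trans (map_zero p'.toAlgHom).symm) (h₂.trans (map_zero p''.toAlgHom).symm)
  ex := h.surj
  surj := hf

theorem isPushout_of_spec {A B C P : CommRingCat.{u}} (f : A ⟶ B) (g : A ⟶ C) (inl : B ⟶ P) (inr : C ⟶ P)
    (h : IsPullback (Spec.map inl) (Spec.map inr) (Spec.map f) (Spec.map g)) : IsPushout f g inl inr := by
  have w : inl.op ≫ f.op = inr.op ≫ g.op := congrArg Quiver.Hom.op (Spec.map_injective (by
    rw [Spec.map_comp, Spec.map_comp]; exact h.w) : f ≫ inl = g ≫ inr)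
  exact (IsPullback.of_map Scheme.Spec w h).flip.unop

theorem surjective_specMap {A B : Art Λ k} (g : A ⟶ B) : Surjective (specMap g) :=
  ⟨fun y => by
    refine ⟨(IsLocalRing.closedPoint B : PrimeSpectrum B), PrimeSpectrum.ext ?_⟩
    let z : PrimeSpectrum A := (specMap g) (IsLocalRing.closedPoint B : PrimeSpectrum B)
    let y' : PrimeSpectrum A := y
    exact (IsLocalRing.eq_maximalIdeal (IsArtinianRing.isMaximal_of_isPrime z.asIdeal)).trans
      (IsLocalRing.eq_maximalIdeal (IsArtinianRing.isMaximal_of_isPrime y'.asIdeal)).symm⟩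

/-- The two pieces of a deformation over a fibre product cover it as a pushout. -/
theorem isPushout_arr (h : IsFibreProd p' p'' f' f'') (hf : Function.Surjective f'')
    {ζ : DefSch X x B} {ξ' : DefSch X x A'} {ξ'' : DefSch X x A''} {η : DefSch X x A}
    (b' : Arr p' ζ ξ') (b'' : Arr p'' ζ ξ'') (a' : Arr f' ξ' η) (a'' : Arr f'' ξ'' η)
    (w : a''.hom ≫ b''.hom = a'.hom ≫ b'.hom) :
    IsPushout a''.hom a'.hom b''.hom b'.hom := by
  haveI : IsClosedImmersion (specMap f'') := IsClosedImmersion.spec_of_surjective _ hf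
  haveI : IsAffineHom (specMap f') := inferInstance
  have hC : Pushout6.Covered (specMap f'') (specMap f') :=
    Pushout6.covered_of_thickening _ _ (surjective_specMap f'').surj
  have hP : IsPushout (specMap f'') (specMap f') (specMap p'') (specMap p') :=
    Misc6.isPushout_spec (fibreSquare h hf)
  exact Pushout6.isPushout_baseChange (𝟙 (spec B)) ζ.f hC hP (Or.inl ζ.flat)
    (IsPullback.of_vert_isIso ⟨by simp⟩ : IsPullback ζ.f (𝟙 ζ.total) (𝟙 (spec B)) ζ.f)
    b''.isPullback.flip b'.isPullback.flip a''.isPullback.flip a'.isPullback.w w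

set_option backward.isDefEq.respectTransparency false in
/-- Deformations over `A'` and `A''` restricting to the same deformation over `A` glue over `A' ×_A A''`. -/
theorem exists_glue (h : IsFibreProd p' p'' f' f'') (hf : Function.Surjective f'')
    {ξ' : DefSch X x A'} {ξ'' : DefSch X x A''} {η : DefSch X x A} (a' : Arr f' ξ' η) (a'' : Arr f'' ξ'' η) :
    ∃ (ζ : DefSch X x B) (b' : Arr p' ζ ξ') (b'' : Arr p'' ζ ξ''), a''.hom ≫ b''.hom = a'.hom ≫ b'.hom := by
  haveI : IsClosedImmersion (specMap f'') := IsClosedImmersion.spec_of_surjective _ hf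
  haveI : IsClosedImmersion a''.hom :=
    MorphismProperty.of_isPullback (P := @IsClosedImmersion) a''.isPullback.flip inferInstance
  haveI := surjective_specMap f''
  haveI : Surjective a''.hom := MorphismProperty.of_isPullback (P := @Surjective) a''.isPullback.flip inferInstance
  haveI : IsAffineHom a'.hom := MorphismProperty.of_isPullback (P := @IsAffineHom) a'.isPullback.flip inferInstance
  have hC : Pushout6.Covered a''.hom a'.hom := Pushout6.covered_of_thickening _ _ a''.hom.surjective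
  obtain ⟨r, hr₁, hr₂⟩ := Pushout6.exists_desc hC (ξ''.f ≫ specMap p'') (ξ'.f ≫ specMap p') (by
    rw [reassoc_of% a''.isPullback.w, reassoc_of% a'.isPullback.w, ← specMap_comp, ← specMap_comp, h.w])
  -- the situation on a chart
  have key : ∀ c : Pushout6.Chart a''.hom a'.hom,
      ∃ ρ : CommRingCat.of B ⟶ c.ring, Pushout6.chartι c ≫ r = Spec.map ρ ∧ ρ.hom.Flat ∧
        IsPullback c.α (c.hU.fromSpec ≫ ξ''.f) (Pushout6.chartι c ≫ r) (specMap p'') ∧
        IsPullback c.β (c.hV.fromSpec ≫ ξ'.f) (Pushout6.chartι c ≫ r) (specMap p') := by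
    intro c
    let hT := c.isAffineOpen_trace
    obtain ⟨ρ, hρ⟩ := Spec.map_surjective (Pushout6.chartι c ≫ r)
    obtain ⟨σ₂, hσ₂⟩ := Spec.map_surjective (c.hU.fromSpec ≫ ξ''.f)
    obtain ⟨σ₁, hσ₁⟩ := Spec.map_surjective (c.hV.fromSpec ≫ ξ'.f)
    obtain ⟨σ, hσ⟩ := Spec.map_surjective (hT.fromSpec ≫ η.f)
    have hp₀ : IsPullback (Spec.map c.p) hT.fromSpec c.hU.fromSpec a''.hom :=
      IsOpenImmersion.isPullback _ _ _ _
        (IsAffineOpen.SpecMap_appLE_fromSpec a''.hom c.hU hT le_rfl).symm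
        (by rw [c.hU.opensRange_fromSpec, hT.opensRange_fromSpec])
    have hq₀ : IsPullback (Spec.map c.q) hT.fromSpec c.hV.fromSpec a'.hom :=
      IsOpenImmersion.isPullback _ _ _ _
        (IsAffineOpen.SpecMap_appLE_fromSpec a'.hom c.hV hT c.trace.le).symm
        (by rw [c.hV.opensRange_fromSpec, hT.opensRange_fromSpec, c.trace])
    have hp₁ := hp₀.paste_vert a''.isPullback
    have hq₁ := hq₀.paste_vert a'.isPullback
    rw [← hσ₂, ← hσ] at hp₁
    rw [← hσ₁, ← hσ] at hq₁
    have hf₁ : σ₁.hom.Flat := by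
      rw [← HasRingHomProperty.Spec_iff (P := @Flat), hσ₁]
      infer_instance
    have hf₂ : σ₂.hom.Flat := by
      rw [← HasRingHomProperty.Spec_iff (P := @Flat), hσ₂]
      infer_instance
    have w₁ : ρ ≫ c.f = CommRingCat.ofHom p'.toAlgHom.toRingHom ≫ σ₁ := Spec.map_injective (by
      rw [Spec.map_comp, Spec.map_comp, hρ, hσ₁, Category.assoc, ← hr₂, ← Category.assoc c.hV.fromSpec,
        Pushout6.fromSpec_inr, Category.assoc]
      rfl)
    have w₂ : ρ ≫ c.g = CommRingCat.ofHom p''.toAlgHom.toRingHom ≫ σ₂ := Spec.map_injective (by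
      rw [Spec.map_comp, Spec.map_comp, hρ, hσ₂, Category.assoc, ← hr₁, ← Category.assoc c.hU.fromSpec,
        Pushout6.fromSpec_inl, Category.assoc]
      rfl)
    obtain ⟨hfl, h₁, h₂⟩ := isPushout_of_glue (fibreSquare h hf) c.fibreSquare w₁ w₂
      (isPushout_of_spec _ _ _ _ hq₁.flip) (isPushout_of_spec _ _ _ _ hp₁.flip) hf₁ hf₂
    refine ⟨ρ, hρ.symm, hfl, ?_, ?_⟩
    · rw [← hρ, ← hσ₂]
      exact (isPullback_SpecMap_of_isPushout _ _ _ _ h₂.flip)
    · rw [← hρ, ← hσ₁]
      exact (isPullback_SpecMap_of_isPushout _ _ _ _ h₁.flip)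
  let 𝒰 : (Pushout6.obj a''.hom a'.hom).OpenCover :=
    Scheme.IsLocallyDirected.openCover (Pushout6.diagram a''.hom a'.hom)
  have hflat : Flat r := by
    refine IsZariskiLocalAtSource.of_openCover (P := @Flat) 𝒰 fun c => ?_
    obtain ⟨ρ, hρ, hfl, -⟩ := key c
    show Flat (Pushout6.chartι c ≫ r)
    rw [hρ]
    exact (HasRingHomProperty.Spec_iff (P := @Flat)).2 hfl
  have hp'' : IsPullback (Pushout6.inl hC) ξ''.f r (specMap p'') := by
    refine Scheme.isPullback_of_openCover _ _ _ _ 𝒰 fun c => ?_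
    obtain ⟨ρ, hρ, -, h₂, -⟩ := key c
    have hpb : IsPullback c.hU.fromSpec c.α (Pushout6.inl hC) (Pushout6.chartι c) :=
      (IsOpenImmersion.isPullback _ _ _ _ (Pushout6.fromSpec_inl hC c)
        (by rw [Pushout6.preimage_inl, c.hU.opensRange_fromSpec])).flip
    exact h₂.of_iso hpb.isoPullback (Iso.refl _) (Iso.refl _) (Iso.refl _)
      (by rw [Iso.refl_hom, Category.comp_id]; exact hpb.isoPullback_hom_snd.symm)
      (by rw [Iso.refl_hom, Category.comp_id]; exact (congrArg (· ≫ ξ''.f) hpb.isoPullback_hom_fst.symm).trans (Category.assoc _ _ _))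
      (by simp; rfl) (by simp)
  have hp' : IsPullback (Pushout6.inr hC) ξ'.f r (specMap p') := by
    refine Scheme.isPullback_of_openCover _ _ _ _ 𝒰 fun c => ?_
    obtain ⟨ρ, hρ, -, -, h₁⟩ := key c
    have hpb : IsPullback c.hV.fromSpec c.β (Pushout6.inr hC) (Pushout6.chartι c) :=
      (IsOpenImmersion.isPullback _ _ _ _ (Pushout6.fromSpec_inr hC c)
        (by rw [Pushout6.preimage_inr, c.hV.opensRange_fromSpec])).flip
    exact h₁.of_iso hpb.isoPullback (Iso.refl _) (Iso.refl _) (Iso.refl _)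
      (by rw [Iso.refl_hom, Category.comp_id]; exact hpb.isoPullback_hom_snd.symm)
      (by rw [Iso.refl_hom, Category.comp_id]; exact (congrArg (· ≫ ξ'.f) hpb.isoPullback_hom_fst.symm).trans (Category.assoc _ _ _))
      (by simp; rfl) (by simp)
  let ζ : DefSch X x B :=
    { total := Pushout6.obj a''.hom a'.hom
      f := r
      flat := hflat
      i := ξ'.i ≫ Pushout6.inr hC
      isPullback := by
        rw [← specRes_comp p']
        exact ξ'.isPullback.paste_horiz hp' }
  refine ⟨ζ, ⟨Pushout6.inr hC, hp', rfl⟩, ⟨Pushout6.inl hC, hp'', ?_⟩, Pushout6.condition hC⟩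
  show ξ''.i ≫ _ = ξ'.i ≫ _
  rw [← a''.i_hom, ← a'.i_hom, Category.assoc, Category.assoc, Pushout6.condition]

end GrothLib.DefGlue19
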